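import Groth.Agent.K0DerSub.Basic
import Groth.Agent.DQCoh.PerfCrit
import Groth.Agent.DQCoh.Pseudo
import Groth.Agent.QC.Coherent
import Groth.Agent.LocFree.Props
import Groth.Agent.Devissage.Support
import Groth.Agent.Devissage.Piece
import Groth.Prelude.Def_KZero

/-!
# Perfect complexes on a Noetherian scheme and K₀ of coherent modules
-/

set_option backward.isDefEq.respectTransparency false
set_option backward.isDefEq.respectTransparency.types false
set_option linter.style.haveILetI false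
set_option autoImplicit false

universe u

open CategoryTheory Limits AlgebraicGeometry HomologicalComplex Pretriangulated ZeroObject

attribute [local instance] HasDerivedCategory.standard

namespace Groth.Agent.K0Coh

variable {X : Scheme.{u}}

lemma isZero_of_restrict_cover {M : X.Modules} (V : X → X.Opens) (hV : ∀ x, x ∈ V x)
    (h : ∀ x, IsZero (M.restrict (V x).ι)) : IsZero M := by
  have : IsIso (0 : M ⟶ (0 : X.Modules)) := by
    refine QC.isIso_of_restrict_cover (fun x : X => (V x).ι) (fun x => ⟨x, ?_⟩) _ fun x => ?_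
    · rw [Scheme.Opens.range_ι]; exact hV x
    · exact isIso_of_source_target_iso_zero _ (h x).isoZero
        ((Scheme.Modules.restrictFunctor (V x).ι).map_isZero (isZero_zero X.Modules)).isoZero
  exact (isZero_zero X.Modules).of_iso (asIso (0 : M ⟶ (0 : X.Modules)))

lemma isCoh_of_isFinLocFree {M : X.Modules} (h : FlatMod.IsFinLocFree M) : Coh.IsCoh M :=
  ⟨DQCoh.isQCoh_of_isFinLocFree h, LocFree.isFT_of_isFinLocFree h⟩

lemma isCoh_of_iso {M N : X.Modules} (e : M ≅ N) (h : Coh.IsCoh M) : Coh.IsCoh N :=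
  ⟨QC.isQCoh_of_iso e h.1, QC.isFT_of_epi e.hom h.2⟩

lemma isCoh_of_isZero [IsLocallyNoetherian X] {M : X.Modules} (h : IsZero M) : Coh.IsCoh M := by
  have h1 := Devissage.isCoh_unit X
  exact isCoh_of_iso (((isZero_zero X.Modules).of_iso (kernel.ofMono (𝟙 (Coh.structureModule X)))).iso h)
    (QC.isCoh_kernel h1 h1.1 (𝟙 (Coh.structureModule X)))

lemma isCoh_of_local {M : X.Modules}
    (h : ∀ x : X, ∃ V : X.Opens, x ∈ V ∧ Coh.IsCoh (M.restrict V.ι)) : Coh.IsCoh M :=
  ⟨DQCoh.isQCoh_of_restrict_opens fun x => let ⟨V, hx, hV⟩ := h x; ⟨V, hx, hV.1⟩,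
    QC.isFT_of_local fun x => let ⟨V, hx, hV⟩ := h x
      ⟨_, V.ι, inferInstance, ⟨⟨x, hx⟩, rfl⟩, hV.2⟩⟩

lemma isCoh_homology_of_X [IsLocallyNoetherian X] (E : CochainComplex X.Modules ℤ)
    (h : ∀ n, Coh.IsCoh (E.X n)) (i : ℤ) : Coh.IsCoh (E.homology i) := by
  have hc : Coh.IsCoh (E.cycles i) :=
    isCoh_of_iso (E.sc i).cyclesIsoKernel.symm (QC.isCoh_kernel (h _) (h _).1 _)
  exact isCoh_of_iso (IsColimit.coconePointUniqueUpToIso (colimit.isColimit _)
    ((E.sc i).homologyIsCokernel)) (QC.isCoh_cokernel (h _).1 hc (E.sc i).toCycles)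

/-- A perfect object on a Noetherian scheme is bounded with coherent cohomology. -/
theorem bounded_isCohD_of_isPerfect [IsNoetherian X] {K : DCoh.D X} (hK : DCoh.IsPerfect K) :
    DCoh.IsCohD K ∧ ∃ a b : ℤ, K.IsGE a ∧ K.IsLE b := by
  let F := (DerivedCategory.Q : _ ⥤ DCoh.D X).objPreimage K
  let e : DCoh.toD X F ≅ K := DerivedCategory.Q.objObjPreimageIso K
  have key : ∀ (i : ℤ) (V : X.Opens), DCoh.HD (DCoh.toD (V : Scheme.{u}) ((DCoh.restrictCx V).obj F)) i ≅
      (Scheme.Modules.restrictFunctor V.ι).obj (DCoh.HD K i) := fun i V =>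
    KFlat.hdIso _ i ≪≫ (F.sc i).mapHomologyIso (Scheme.Modules.restrictFunctor V.ι) ≪≫
      (Scheme.Modules.restrictFunctor V.ι).mapIso ((KFlat.hdIso F i).symm ≪≫
        (DerivedCategory.homologyFunctor _ i).mapIso e)
  have hloc : ∀ x : X, ∃ (V : X.Opens) (a b : ℤ), x ∈ V ∧
      (∀ i, Coh.IsCoh ((DCoh.HD K i).restrict V.ι)) ∧
      ∀ i, i < a ∨ b < i → IsZero ((DCoh.HD K i).restrict V.ι) := fun x => by
    obtain ⟨V, hx, E, ⟨⟨a, b, hab⟩, hE⟩, ⟨f⟩⟩ := (DerPerf.isPerfect_iff_rep e).1 hK x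
    have ei : ∀ i, (DCoh.HD K i).restrict V.ι ≅ E.homology i := fun i =>
      (key i V).symm ≪≫ (DerivedCategory.homologyFunctor _ i).mapIso f ≪≫ KFlat.hdIso E i
    refine ⟨V, a, b, hx, fun i => isCoh_of_iso (ei i).symm
      (isCoh_homology_of_X E (fun n => isCoh_of_isFinLocFree (hE n)) i), fun i hi => ?_⟩
    exact (((E.exactAt_iff i).2 (ShortComplex.exact_of_isZero_X₂ _ (hab i hi))).isZero_homology).of_iso (ei i)
  choose V a b hx hcoh hz using hloc
  obtain ⟨S, hS⟩ := isCompact_univ.elim_finite_subcover (fun x : X => (V x : Set X))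
    (fun x => (V x).2) (fun x _ => Set.mem_iUnion.2 ⟨x, hx x⟩)
  obtain ⟨A, hA⟩ := (S.image a).finite_toSet.bddBelow
  obtain ⟨B, hB⟩ := (S.image b).finite_toSet.bddAbove
  have hout : ∀ i, i < A ∨ B < i → IsZero (DCoh.HD K i) := fun i hi => by
    have hcov : ∀ x : X, ∃ y, y ∈ S ∧ x ∈ V y := fun x => by simpa using hS (Set.mem_univ x)
    choose y hy hxy using hcov
    refine isZero_of_restrict_cover (fun x => V (y x)) hxy fun x => hz _ i (hi.imp ?_ ?_)
    · exact fun h => h.trans_le (hA (Finset.mem_coe.2 (Finset.mem_image_of_mem a (hy x))))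
    · exact fun h => lt_of_le_of_lt (hB (Finset.mem_coe.2 (Finset.mem_image_of_mem b (hy x)))) h
  exact ⟨fun i => isCoh_of_local fun x => ⟨V x, hx x, hcoh x i⟩, A, B,
    (DerivedCategory.isGE_iff _ _).2 fun i hi => hout i (Or.inl hi),
    (DerivedCategory.isLE_iff _ _).2 fun i hi => hout i (Or.inr hi)⟩

variable (X) in
/-- Coherent modules supported in a subset. -/
abbrev CohOn (Z : Set X) : ObjectProperty X.Modules := fun G => Coh.IsCoh G ∧ CohB1.support G ⊆ Z

instance cohOn_iso (Z : Set X) : (CohOn X Z).IsClosedUnderIsomorphisms :=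
  ⟨fun e h => ⟨isCoh_of_iso e h.1, (Devissage.support_subset_of_mono e.inv).trans h.2⟩⟩

lemma support_of_isZero {M : X.Modules} (h : IsZero M) (Z : Set X) : CohB1.support M ⊆ Z := fun x hx =>
  absurd (subsingleton_stalk x) hx
where
  subsingleton_stalk (x : X) : Subsingleton (M.presheaf.stalk x) :=
    AddCommGrpCat.subsingleton_of_isZero ((Scheme.Modules.toPresheaf X ⋙
      TopCat.Presheaf.stalkFunctor Ab.{u} x).map_isZero h)

instance cohOn_zero [IsLocallyNoetherian X] (Z : Set X) : (CohOn X Z).ContainsZero :=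
  ⟨0, isZero_zero _, isCoh_of_isZero (isZero_zero _), support_of_isZero (isZero_zero _) Z⟩

instance cohOn_ker [IsLocallyNoetherian X] (Z : Set X) : (CohOn X Z).IsClosedUnderKernels where
  kernels_le := by
    rintro _ ⟨f, k, hk, hX, hY⟩
    exact (CohOn X Z).prop_of_iso ((kernelIsKernel f).conePointUniqueUpToIso hk)
      ⟨QC.isCoh_kernel hX.1 hY.1.1 f, (Devissage.support_subset_of_mono (kernel.ι f)).trans hX.2⟩

instance cohOn_coker [IsLocallyNoetherian X] (Z : Set X) : (CohOn X Z).IsClosedUnderCokernels where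
  cokernels_le := by
    rintro _ ⟨f, k, hk, hX, hY⟩
    refine (CohOn X Z).prop_of_iso ((cokernelIsCokernel f).coconePointUniqueUpToIso hk)
      ⟨QC.isCoh_cokernel hX.1.1 hY.1 f, fun x hx => ?_⟩
    by_contra hxZ
    have hsub : Subsingleton _ := not_not.1 (fun h => hxZ (hY.2 h))
    refine Devissage.notMem_support_of_surjective
      (ShortComplex.mk (kernel.ι (cokernel.π f)) (cokernel.π f) (kernel.condition _))
      { exact := ShortComplex.exact_of_f_is_kernel _ (kernelIsKernel _)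
        mono_f := by dsimp; infer_instance
        epi_g := by dsimp; infer_instance } x (fun m => ⟨0, ?_⟩) hx
    exact hsub.elim _ _

theorem exists_equiv_supported [IsNoetherian X] (Z : Set X)
    (hperf : ∀ G : X.Modules, Coh.IsCoh G → CohB1.support G ⊆ Z → DCoh.IsPerfect (DCoh.inD X G)) :
    ∃ φ : KZero.K0sub (CohOn X Z) ≃+
        KZero.K0tr (fun K : DCoh.D X => DCoh.IsPerfect K ∧ ∀ i : ℤ, CohB1.support (DCoh.HD K i) ⊆ Z),
      ∀ G : X.Modules, CohOn X Z G → φ (KZero.clSub (CohOn X Z) G) =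
        KZero.clTr (fun K : DCoh.D X => DCoh.IsPerfect K ∧ ∀ i : ℤ, CohB1.support (DCoh.HD K i) ⊆ Z)
          (DCoh.inD X G) := by
  refine K0DerSub.exists_equiv _ fun K => ⟨fun ⟨h1, h2⟩ => ?_, fun h => ⟨?_, fun i => (h.1 i).2⟩⟩
  · obtain ⟨hc, hb⟩ := bounded_isCohD_of_isPerfect h1
    exact ⟨fun i => ⟨hc i, h2 i⟩, hb⟩
  · refine K0DerSub.of_bounded (P := CohOn X Z) DCoh.IsPerfect (fun e h => DQCoh.perfect_of_iso e h)
      (fun T hT h₁ h₃ => DQCoh.perfect_obj₂ T hT h₁ h₃) (fun m G hG => ?_) ?_ h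
    · exact DQCoh.perfect_of_iso
        (((DerivedCategory.singleFunctors X.Modules).shiftIso (-m) m 0 (by lia)).app G).symm.symm
        (DQCoh.perfect_shift (hperf G hG.1 hG.2) _)
    · exact fun hz => DQCoh.perfect_of_iso ((isZero_zero _).iso hz) perfect_zero
where
  perfect_zero : DCoh.IsPerfect (0 : DCoh.D X) := by
    rw [DQCoh.perfect_iff_near]
    intro x
    exact ⟨X, 𝟙 X, inferInstance, x, rfl, 0, DQCoh.isStrictlyPerfect_zero,
      ⟨((DQCoh.RD (𝟙 X)).map_isZero (isZero_zero _)).iso (DerivedCategory.Q.map_isZero (isZero_zero _))⟩⟩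

end Groth.Agent.K0Coh
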