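import Groth.Agent.K0Coh.Basic
import Groth.Agent.DRingKP.Regular
import Groth.Agent.DQCoh.AffinePerf

/-!
# Bounded coherent complexes on regular schemes are perfect
-/

set_option backward.isDefEq.respectTransparency false
set_option backward.isDefEq.respectTransparency.types false
set_option linter.style.haveILetI false
set_option autoImplicit false

universe u

open CategoryTheory Limits AlgebraicGeometry Pretriangulated ZeroObject

attribute [local instance] HasDerivedCategory.standard

namespace Groth.Agent.K0Coh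

variable {X : Scheme.{u}}

lemma regular_localizations {U : X.Opens} (hU : IsAffineOpen U)
    (hreg : ∀ x : X, IsRegularLocalRing (X.presheaf.stalk x)) (p : PrimeSpectrum Γ(X, U)) :
    IsRegularLocalRing (Localization.AtPrime p.asIdeal) := by
  have hy : hU.fromSpec p ∈ U := hU.range_fromSpec.le ⟨p, rfl⟩
  letI := TopCat.Presheaf.algebra_section_stalk X.presheaf ⟨hU.fromSpec p, hy⟩
  haveI := hU.isLocalization_stalk' p hy
  haveI := hreg (hU.fromSpec p)
  exact IsRegularLocalRing.of_ringEquiv (R := X.presheaf.stalk (hU.fromSpec p))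
    (IsLocalization.algEquiv p.asIdeal.primeCompl (X.presheaf.stalk (hU.fromSpec p))
      (Localization.AtPrime p.asIdeal)).toRingEquiv

lemma finite_gamma {A : CommRingCat.{u}} {M : (Spec A).Modules} (hM : Coh.IsCoh M) :
    Module.Finite A ((moduleSpecΓFunctor (R := A)).obj M) := by
  let N := (moduleSpecΓFunctor (R := A)).obj M
  haveI : M.IsQuasicoherent := hM.1
  haveI : Module.Finite Γ(Spec A, ⊤) Γ(M, ⊤) := QC.finite_sections (isAffineOpen_top (Spec A)) hM.2
  let e : Γ(Spec A, ⊤) ≃+* A := (Scheme.ΓSpecIso A).commRingCatIsoToRingEquiv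
  haveI : RingHomInvPair (e : Γ(Spec A, ⊤) →+* A) (e.symm : A →+* Γ(Spec A, ⊤)) := RingHomInvPair.of_ringEquiv e
  let l : Γ(M, ⊤) →ₛₗ[(e : Γ(Spec A, ⊤) →+* A)] N :=
    { toFun := fun s => s
      map_add' := fun _ _ => rfl
      map_smul' := fun c s => by
        show c • s = e.symm (e c) • (show Γ(M, ⊤) from s)
        rw [e.symm_apply_apply] }
  haveI : RingHomSurjective (e : Γ(Spec A, ⊤) →+* A) := ⟨e.surjective⟩
  exact Module.Finite.of_surjective l fun s => ⟨s, rfl⟩

theorem isPerfect_inD_of_regular [IsLocallyNoetherian X]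
    (hreg : ∀ x : X, IsRegularLocalRing (X.presheaf.stalk x)) {G : X.Modules} (hG : Coh.IsCoh G) :
    DCoh.IsPerfect (DCoh.inD X G) := by
  rw [DQCoh.perfect_iff_near]
  intro x
  obtain ⟨U, hU, hxU⟩ := QC.exists_affine_mem x
  let A := Γ(X, U)
  haveI : IsNoetherianRing A := IsLocallyNoetherian.component_noetherian ⟨U, hU⟩
  obtain ⟨y, hy⟩ : x ∈ Set.range hU.fromSpec := hU.range_fromSpec.ge hxU
  let M := G.restrict hU.fromSpec
  have hM : Coh.IsCoh M := ⟨QC.isQCoh_restrict hU.fromSpec hG.1, QC.isFT_restrict hU.fromSpec hG.2⟩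
  haveI : M.IsQuasicoherent := hM.1
  let N := (moduleSpecΓFunctor (R := A)).obj M
  haveI : Module.Finite A N := finite_gamma hM
  haveI : PreservesFiniteLimits (tilde.functor A) := QC.tilde_preservesFiniteLimits
  haveI : PreservesColimitsOfSize.{0, 0} (tilde.functor A) := (tilde.adjunction).leftAdjoint_preservesColimits
  haveI : PreservesFiniteColimits (tilde.functor A) := PreservesColimitsOfSize.preservesFiniteColimits _
  have hN : DRing.IsPerfect A (Dual.inD A N) :=
    DRingKP.isPerfectModule_of_finite (regular_localizations hU hreg) N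
  have hp : DCoh.IsPerfect ((DQCoh.RD hU.fromSpec).obj (DCoh.inD X G)) := by
    refine DQCoh.perfect_of_iso ?_ ((DQCoh.perfect_tilde_iff (A := A) _).2 hN)
    exact ((tilde.functor A).mapDerivedCategorySingleFunctor 0).app N ≪≫
      (DerivedCategory.singleFunctor _ 0).mapIso (asIso M.fromTildeΓ) ≪≫
      (((Scheme.Modules.restrictFunctor hU.fromSpec).mapDerivedCategorySingleFunctor 0).app G).symm
  obtain ⟨W, k, hk, w, hw, hP⟩ := (DQCoh.perfect_iff_near _).1 hp y
  haveI := hk
  exact ⟨W, k ≫ hU.fromSpec, inferInstance, w, by rw [Scheme.Hom.comp_apply, hw, hy],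
    DQCoh.perfOn_push k hU.fromSpec hP⟩

theorem isPerfect_of_bounded_coh [IsLocallyNoetherian X]
    (hreg : ∀ x : X, IsRegularLocalRing (X.presheaf.stalk x)) {K : DCoh.D X} (hK : DCoh.IsCohD K)
    (hb : ∃ a b : ℤ, K.IsGE a ∧ K.IsLE b) : DCoh.IsPerfect K := by
  refine K0DerSub.of_bounded (P := CohOn X Set.univ) DCoh.IsPerfect (fun e h => DQCoh.perfect_of_iso e h)
    (fun T hT h₁ h₃ => DQCoh.perfect_obj₂ T hT h₁ h₃) (fun m G hG => ?_) ?_
    ⟨fun i => ⟨hK i, Set.subset_univ _⟩, hb⟩
  · exact DQCoh.perfect_of_iso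
      ((((DerivedCategory.singleFunctors X.Modules).shiftIso (-m) m 0 (by lia)).app G))
      (DQCoh.perfect_shift (isPerfect_inD_of_regular hreg hG.1) _)
  · exact fun hz => DQCoh.perfect_of_iso ((isZero_zero _).iso hz) exists_equiv_supported.perfect_zero

end Groth.Agent.K0Coh
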